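import Groth.Agent.ChGrp.K982.Act
import Groth.Prelude.Def_W4bk4git07Quot

/-!
# A `G`-scheme over a homogeneous space is a balanced product

`p : W ⟶ O` a `G`-equivariant morphism, `o` a section of `O` whose orbit map has local sections, `H` its stabilizer,
`V` the fibre of `p` over `o`: then `G × V ⟶ W`, `(g, z) ↦ g z` makes `W` the balanced product `G ×^H V`; and every
balanced product is the categorical quotient of `G × V` by the twisted action.
-/

set_option autoImplicit false
universe u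

open CategoryTheory CategoryTheory.Limits MonoidalCategory CartesianMonoidalCategory MonObj GrpObj AlgebraicGeometry Opposite

namespace K172.Bal

open K982.Pts K982.Act

variable {S : Scheme.{u}} {G H W O V : Over S} [GrpObj G] [GrpObj H] {K : Precoverage Scheme.{u}}
  {aW : AlgGrp.Action G W} {aO : AlgGrp.Action G O} {o : 𝟙_ (Over S) ⟶ O} {i : H ⟶ G}

omit [GrpObj H] in
theorem exists_stab (hH : IsPullback i (toUnit H) (aO.orbitMap o) o) {T : Over S} (g : T ⟶ G)
    (h : sm aO g (toUnit T ≫ o) = toUnit T ≫ o) : ∃ h : T ⟶ H, h ≫ i = g := by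
  obtain ⟨p, hp, -⟩ := exists_of_isPullback hH g (toUnit T) (by rw [K982.Act.comp_orbitMap, h])
  exact ⟨p, hp⟩

omit [GrpObj H] in
theorem sm_stab (hH : IsPullback i (toUnit H) (aO.orbitMap o) o) {T : Over S} (h : T ⟶ H) :
    sm aO (h ≫ i) (toUnit T ≫ o) = toUnit T ≫ o := by
  rw [← K982.Act.comp_orbitMap, Category.assoc, hH.w, ← Category.assoc, toUnit_unique (h ≫ toUnit H) (toUnit T)]

theorem mono_of_isPullback_point {A B C : Over S} {i : A ⟶ B} {q : B ⟶ C} {o : 𝟙_ (Over S) ⟶ C}
    (hH : IsPullback i (toUnit A) q o) : Mono i :=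
  ⟨fun _ _ e => hH.hom_ext e (toUnit_unique _ _)⟩

/-- The action induced on a subobject. -/
def subAct (b : AlgGrp.Action H W) (v : V ⟶ W) [Mono v] (m : H ⊗ V ⟶ V) (h : m ≫ v = (H ◁ v) ≫ b.act) :
    AlgGrp.Action H V where
  act := m
  one_act := by
    rw [← cancel_mono v, Category.assoc, h, ← whisker_exchange_assoc, b.one_act, leftUnitor_naturality]
  mul_act := by
    rw [← cancel_mono v, Category.assoc, h, ← whisker_exchange_assoc, b.mul_act, associator_naturality_right_assoc]
    simp only [Category.assoc, h]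
    rw [← MonoidalCategory.whiskerLeft_comp_assoc, ← MonoidalCategory.whiskerLeft_comp_assoc, h]

section

variable [IsMonHom i] {v : V ⟶ W} {p : W ⟶ O}

theorem act_cond (hH : IsPullback i (toUnit H) (aO.orbitMap o) o) (hp : AlgGrp.Action.IsEquivariant aW aO p)
    (hV : IsPullback v (toUnit V) p o) :
    ((H ◁ v) ≫ (aW.restrict i).act) ≫ p = toUnit (H ⊗ V) ≫ o := by
  refine AlgGrp.Action.hom_ext_lift₂ fun T h z => ?_
  have h1 : lift h z ≫ (H ◁ v) ≫ (aW.restrict i).act = sm aW (h ≫ i) (z ≫ v) := by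
    rw [← Category.assoc, lift_whiskerLeft, lift_act, sm_restrict]
  rw [← Category.assoc, h1, (isEquivariant_iff _ _ _).1 hp, Category.assoc, hV.w, ← Category.assoc z,
    toUnit_unique (z ≫ toUnit V) (toUnit T), sm_stab hH, ← Category.assoc,
    toUnit_unique (lift h z ≫ toUnit (H ⊗ V)) (toUnit T)]

theorem exists_action (hH : IsPullback i (toUnit H) (aO.orbitMap o) o) (hp : AlgGrp.Action.IsEquivariant aW aO p)
    (hV : IsPullback v (toUnit V) p o) :
    ∃ aV : AlgGrp.Action H V, aV.act ≫ v = (H ◁ v) ≫ (aW.restrict i).act := by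
  have := mono_of_isPullback_point hV
  exact ⟨subAct (aW.restrict i) v (hV.lift _ _ (act_cond hH hp hV)) (hV.lift_fst _ _ _), hV.lift_fst _ _ _⟩

theorem sm_comp_v {aV : AlgGrp.Action H V} (haV : aV.act ≫ v = (H ◁ v) ≫ (aW.restrict i).act) {T : Over S}
    (h : T ⟶ H) (z : T ⟶ V) : sm aV h z ≫ v = sm aW (h ≫ i) (z ≫ v) := by
  rw [(isEquivariant_iff aV (aW.restrict i) v).1 haV, sm_restrict]

omit [IsMonHom i] [GrpObj H] in
theorem lift_j {T : Over S} (g : T ⟶ G) (z : T ⟶ V) : lift g z ≫ (G ◁ v) ≫ aW.act = sm aW g (z ≫ v) := by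
  rw [← Category.assoc, lift_whiskerLeft, lift_act]

/-- `W` is the balanced product of `G` and the fibre `V` of `W ⟶ O` over the point `o`. -/
theorem isBalProd [K.IsStableUnderBaseChange] (hH : IsPullback i (toUnit H) (aO.orbitMap o) o)
    (hp : AlgGrp.Action.IsEquivariant aW aO p) (hV : IsPullback v (toUnit V) p o) {aV : AlgGrp.Action H V}
    (haV : aV.act ≫ v = (H ◁ v) ≫ (aW.restrict i).act)
    (hloc : NonAbH1.IsLocallyTrivialFor K (Over.mk (aO.orbitMap o).left : Over O.left)) :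
    ChGrp.IsBalProd K i aV aW ((G ◁ v) ≫ aW.act) := by
  have hm := mono_of_isPullback_point hV
  have hp' := (isEquivariant_iff _ _ _).1 hp
  have hvp : ∀ {T : Over S} (z : T ⟶ V), (z ≫ v) ≫ p = toUnit T ≫ o := fun {T} z => by
    rw [Category.assoc, hV.w, ← Category.assoc, toUnit_unique (z ≫ toUnit V) (toUnit T)]
  refine isBalProd_of_points ?_ ?_ ?_ ?_ ?_
  · intro T g' g z
    rw [lift_j, lift_j, mul_sm]
  · intro T h g z
    rw [lift_j, lift_j, sm_comp_v haV, ← mul_sm, inv_mul_cancel_right]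
  · intro T g g' z z' e
    rw [lift_j, lift_j] at e
    have h1 : sm aO g (toUnit T ≫ o) = sm aO g' (toUnit T ≫ o) := by
      have h0 : sm aW g (z ≫ v) ≫ p = sm aW g' (z' ≫ v) ≫ p := by rw [e]
      rwa [hp', hp', hvp, hvp] at h0
    obtain ⟨h, hh⟩ := exists_stab hH (g⁻¹ * g') (by rw [mul_sm, ← h1, inv_sm_sm])
    refine ⟨h, by rw [hh]; group, ?_⟩
    rw [← cancel_mono v, sm_comp_v haV, hh, mul_sm, ← e, inv_sm_sm]
  · intro T h h' z e _
    exact (mono_of_isPullback_point hH).right_cancellation _ _ e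
  · refine isLocallyTrivialFor_of_lift hloc _ p fun T t g e => ?_
    rw [K982.Act.comp_orbitMap] at e
    obtain ⟨z, hz, -⟩ := exists_of_isPullback hV (sm aW g⁻¹ t) (toUnit T) (by
      rw [hp', ← e, inv_sm_sm])
    exact ⟨lift g z, by rw [lift_j, hz, sm_inv_sm]⟩

/-- A balanced product is the categorical quotient by the twisted action. -/
theorem isCatQuot (hK : K ≤ Scheme.fpqcPrecoverage) {aV : AlgGrp.Action H V} {j : G ⊗ V ⟶ W}
    (hB : ChGrp.IsBalProd K i aV aW j) : GIT.IsCatQuot (ChGrp.twist i aV) j := by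
  refine ⟨hB.2.1.w, fun Z ψ hψ => existsUnique_descend hK hB.2.2 ψ fun T a a' e => ?_⟩
  obtain ⟨q, hq, hq'⟩ := exists_of_isPullback hB.2.1 a a' e
  have hψ' : (ChGrp.twist i aV).act ≫ ψ = snd H (G ⊗ V) ≫ ψ := hψ
  rw [← hq, ← hq', Category.assoc, hψ', Category.assoc]

end

end K172.Bal
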